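import Groth.Prelude.Def_CAlg2
import Groth.Agent.UnibEtale.Unram
import Groth.Agent.GrpSchLib.UnramifiedFibre
import Groth.Agent.UnramMisc.QFSmooth
import Groth.Agent.WeilExt.Extend
import Groth.Agent.SchTop.Closed
import Groth.Agent.SchTop.Maximal
import Mathlib

/-! # Unramified dominant morphisms from connected schemes to geometrically unibranch reduced bases -/

universe u

open CategoryTheory Limits AlgebraicGeometry TopologicalSpace

set_option backward.isDefEq.respectTransparency false
set_option backward.isDefEq.respectTransparency.types false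
set_option linter.style.haveILetI false

noncomputable section

namespace Groth.Agent.QFUnib

theorem isDomain_of_isUnibranch (A : Type u) [CommRing A] [IsLocalRing A] [_root_.IsReduced A]
    (h : CAlg2.IsUnibranch A) : IsDomain A := by
  haveI : IsDomain (A ⧸ nilradical A) := h.1
  haveI : (nilradical A).IsPrime := (Ideal.Quotient.isDomain_iff_prime _).1 inferInstance
  haveI : (⊥ : Ideal A).IsPrime := by rw [← Ideal.zero_eq_bot, ← nilradical_eq_zero A]; infer_instance
  exact IsDomain.of_bot_isPrime A

/-- Stalks at maximal points of a scheme with domain local rings are fields. -/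
theorem isField_stalk_maximal {S : Scheme.{u}} (η : S) [IsDomain (S.presheaf.stalk η)]
    (hmax : ∀ w : S, w ⤳ η → w = η) : IsField (S.presheaf.stalk η) := by
  rw [IsLocalRing.isField_iff_maximalIdeal_eq]
  let q : Spec (S.presheaf.stalk η) := ⟨⊥, Ideal.isPrime_bot⟩
  have h1 : q = IsLocalRing.closedPoint (S.presheaf.stalk η) :=
    (S.fromSpecStalk η).isEmbedding.injective
      ((hmax _ (CDiv6.fromSpecStalk_specializes q)).trans Scheme.fromSpecStalk_closedPoint.symm)
  exact (congrArg PrimeSpectrum.asIdeal h1).symm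

/-- Generization maps out of domain stalks are injective. -/
theorem stalkSpecializes_injective {S : Scheme.{u}} {η s : S} (h : η ⤳ s)
    [IsDomain (S.presheaf.stalk s)] : Function.Injective (S.presheaf.stalkSpecializes h) := by
  obtain ⟨_, ⟨(W : S.Opens), hW, rfl⟩, hsW, -⟩ :=
    S.isBasis_affineOpens.exists_subset_of_mem_open (Set.mem_univ s) isOpen_univ
  have hηW : η ∈ W := h.mem_open W.isOpen hsW
  letI := TopCat.Presheaf.algebra_section_stalk S.presheaf ⟨s, hsW⟩
  letI := TopCat.Presheaf.algebra_section_stalk S.presheaf ⟨η, hηW⟩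
  haveI := hW.isLocalization_stalk ⟨s, hsW⟩
  haveI := hW.isLocalization_stalk ⟨η, hηW⟩
  rw [injective_iff_map_eq_zero]
  intro a ha
  obtain ⟨⟨r, v⟩, hrv⟩ := IsLocalization.surj (hW.primeIdealOf ⟨s, hsW⟩).asIdeal.primeCompl a
  have hr : algebraMap Γ(S, W) (S.presheaf.stalk η) r = 0 := by
    have h2 := congrArg (S.presheaf.stalkSpecializes h) hrv
    rw [map_mul, ha, zero_mul] at h2
    exact (TopCat.Presheaf.germ_stalkSpecializes_apply S.presheaf hsW h r).symm.trans h2.symm
  obtain ⟨t, ht⟩ := (IsLocalization.map_eq_zero_iff (hW.primeIdealOf ⟨η, hηW⟩).asIdeal.primeCompl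
    (S.presheaf.stalk η) r).1 hr
  have h3 : algebraMap Γ(S, W) (S.presheaf.stalk s) t * algebraMap Γ(S, W) (S.presheaf.stalk s) r = 0 := by
    rw [← map_mul, ht, map_zero]
  have ht0 : algebraMap Γ(S, W) (S.presheaf.stalk s) t ≠ 0 := by
    intro h0
    obtain ⟨w, hw⟩ := (IsLocalization.map_eq_zero_iff (hW.primeIdealOf ⟨s, hsW⟩).asIdeal.primeCompl
      (S.presheaf.stalk s) (t : Γ(S, W))).1 h0
    exact ((hW.primeIdealOf ⟨η, hηW⟩).2.mem_or_mem (hw ▸ zero_mem _ : (w : Γ(S, W)) * t ∈ _)).elim
      (fun hwη => w.2 (SchTop.primeIdealOf_le hW hηW hsW h hwη)) t.2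
  have hr0 := (mul_eq_zero.1 h3).resolve_left ht0
  rw [hr0] at hrv
  exact (mul_eq_zero.1 hrv).resolve_right (IsLocalization.map_units _ v).ne_zero

variable {X S : Scheme.{u}} (f : X ⟶ S)

/-- Points with a generization over a maximal point of the base. -/
def goodSet : Set X := {x | ∃ ξ : X, ξ ⤳ x ∧ ∀ w : S, w ⤳ f ξ → w = f ξ}

theorem injective_stalkMap_of_mem (hS : ∀ s : S, IsDomain (S.presheaf.stalk s)) {x : X}
    (hx : x ∈ goodSet f) : Function.Injective (f.stalkMap x) := by
  obtain ⟨ξ, hξ, hmax⟩ := hx
  haveI := hS (f ξ)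
  haveI := hS (f x)
  letI := (isField_stalk_maximal (f ξ) hmax).toField
  have h1 : Function.Injective (f.stalkMap ξ) := (f.stalkMap ξ).hom.injective
  have h2 := stalkSpecializes_injective (hξ.map f.continuous)
  intro a b hab
  apply h2
  apply h1
  have h3 := fun c => ConcreteCategory.congr_hom (Scheme.Hom.stalkSpecializes_stalkMap f ξ x hξ) c
  have h4 := congrArg (X.presheaf.stalkSpecializes hξ) hab
  exact (h3 a).trans (h4.trans (h3 b).symm)

theorem etale_of_unibranch [IsLocallyNoetherian S] [IsReduced S]
    (hS : ∀ s : S, CAlg2.IsGeomUnibranch (S.presheaf.stalk s)) [LocallyOfFiniteType f]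
    [QuasiCompact f] [LocallyQuasiFinite f] [IsDominant f] [ConnectedSpace X]
    [FormallyUnramified f] : Etale f := by
  haveI : LocallyOfFinitePresentation f := inferInstance
  haveI : IsLocallyNoetherian X := LocallyOfFiniteType.isLocallyNoetherian f
  have hd : ∀ s : S, IsDomain (S.presheaf.stalk s) := fun s => isDomain_of_isUnibranch _ (hS s).1
  -- smooth exactly at good points
  have hsmooth : (f.smoothLocus : Set X) = goodSet f := by
    ext x
    constructor
    · intro hx
      obtain ⟨η, hη, hmax⟩ := WeilExt.exists_maximal_generization (f x)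
      haveI : Smooth (f.smoothLocus.ι ≫ f) := by
        rw [← Scheme.Hom.smoothLocus_eq_top_iff, ← Scheme.Hom.preimage_smoothLocus_eq, eq_top_iff]
        exact fun t _ => t.2
      obtain ⟨ξ, hξ, he⟩ := Flat.generalizingMap (f.smoothLocus.ι ≫ f)
        (show η ⤳ (f.smoothLocus.ι ≫ f) ⟨x, hx⟩ from hη)
      refine ⟨f.smoothLocus.ι ξ, hξ.map f.smoothLocus.ι.continuous, ?_⟩
      rw [← Scheme.Hom.comp_apply, he]
      exact hmax
    · intro hx
      show (f.stalkMap x).hom.FormallySmooth
      exact UnibEtale.smooth_stalk f x (FormallyUnramified.stalkMap f x)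
        (injective_stalkMap_of_mem f hd hx) (hd _) (hS _)
  -- good points form a closed set
  have hclosed : IsClosed (goodSet f) := by
    refine isClosed_iff_clusterPt.2 fun x hx => ?_
    rw [← mem_closure_iff_clusterPt] at hx
    obtain ⟨_, ⟨(V : X.Opens), hV, rfl⟩, hxV, -⟩ :=
      X.isBasis_affineOpens.exists_subset_of_mem_open (Set.mem_univ x) isOpen_univ
    haveI := IsLocallyNoetherian.component_noetherian ⟨V, hV⟩
    haveI : NoetherianSpace V.toScheme := noetherianSpace_of_isAffineOpen V hV
    haveI : QuasiSober ↥V := inferInstanceAs (QuasiSober ↥V.toScheme)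
    let M : Set X := {ξ | ξ ∈ V ∧ ∀ w : S, w ⤳ f ξ → w = f ξ}
    have hM : M.Finite := by
      refine Set.Finite.of_finite_image (f := fun ξ => irreducibleComponent ξ ∩ (V : Set X)) ?_ ?_
      · refine ((NoetherianSpace.finite_irreducibleComponents (α := V.toScheme)).image
          (fun C => V.ι '' C)).subset ?_
        rintro _ ⟨ξ, ⟨hξV, hξ⟩, rfl⟩
        refine ⟨irreducibleComponent (⟨ξ, hξV⟩ : V.toScheme), irreducibleComponent_mem_irreducibleComponents _, ?_⟩
        have hmaxX : ∀ w : X, w ⤳ ξ → w = ξ := fun w hw => by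
          have hfw := hξ _ (hw.map f.continuous)
          have hdisc := locallyQuasiFinite_iff_isDiscrete_preimage_singleton.1 ‹_› (f ξ)
          rw [isDiscrete_iff_discreteTopology] at hdisc
          have h1 : (⟨w, hfw⟩ : ↥(f ⁻¹' {f ξ})) ⤳ ⟨ξ, rfl⟩ := (subtype_specializes_iff _ _).2 hw
          exact congrArg Subtype.val h1.eq
        have e1 : irreducibleComponent ξ = closure {ξ} := by
          have hirr : IsIrreducible (irreducibleComponent ξ) := isIrreducible_irreducibleComponent
          have hgen := hirr.isGenericPoint_genericPoint isClosed_irreducibleComponent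
          rw [← hgen.def, hmaxX _ (hgen.specializes mem_irreducibleComponent)]
        have e2 : irreducibleComponent (⟨ξ, hξV⟩ : V.toScheme) = closure {⟨ξ, hξV⟩} := by
          have hirr : IsIrreducible (irreducibleComponent (⟨ξ, hξV⟩ : V.toScheme)) :=
            isIrreducible_irreducibleComponent
          have hgen := hirr.isGenericPoint_genericPoint isClosed_irreducibleComponent
          have : hirr.genericPoint = ⟨ξ, hξV⟩ := Subtype.ext
            (hmaxX _ ((hgen.specializes mem_irreducibleComponent).map V.ι.continuous))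
          rw [← hgen.def, this]
        show V.ι '' irreducibleComponent (⟨ξ, hξV⟩ : V.toScheme) = irreducibleComponent ξ ∩ (V : Set X)
        rw [e1, e2, V.ι.isOpenEmbedding.isInducing.closure_eq_preimage_closure_image,
          Set.image_preimage_eq_inter_range, Set.image_singleton, Scheme.Opens.range_ι]
        rfl
      · rintro a ⟨ha, ha'⟩ b ⟨hb, hb'⟩ hab
        have hmax : ∀ ξ, (∀ w : S, w ⤳ f ξ → w = f ξ) → ∀ w : X, w ⤳ ξ → w = ξ := fun ξ hξ w hw => by
          have hfw := hξ _ (hw.map f.continuous)
          have hdisc := locallyQuasiFinite_iff_isDiscrete_preimage_singleton.1 ‹_› (f ξ)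
          rw [isDiscrete_iff_discreteTopology] at hdisc
          have h1 : (⟨w, hfw⟩ : ↥(f ⁻¹' {f ξ})) ⤳ ⟨ξ, rfl⟩ := (subtype_specializes_iff _ _).2 hw
          exact congrArg Subtype.val h1.eq
        have hab' : a ∈ irreducibleComponent b := (hab.le ⟨mem_irreducibleComponent, ha⟩).1
        have hirr : IsIrreducible (irreducibleComponent b) := isIrreducible_irreducibleComponent
        have hgen := hirr.isGenericPoint_genericPoint isClosed_irreducibleComponent
        exact ((hmax a ha' _ (hgen.specializes hab')).symm.trans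
          (hmax b hb' _ (hgen.specializes mem_irreducibleComponent)))
    have h1 : goodSet f ∩ (V : Set X) ⊆ ⋃ ξ ∈ M, closure {ξ} := by
      rintro y ⟨⟨ξ, hξ, hmax⟩, hy⟩
      exact Set.mem_biUnion (show ξ ∈ M from ⟨hξ.mem_open V.isOpen hy, hmax⟩) hξ.mem_closure
    have h2 : x ∈ closure (goodSet f ∩ (V : Set X)) := by
      rw [Set.inter_comm]
      exact V.isOpen.inter_closure ⟨hxV, hx⟩
    obtain ⟨ξ, hξ, hxξ⟩ := Set.mem_iUnion₂.1
      (closure_minimal h1 (hM.isClosed_biUnion fun _ _ => isClosed_closure) h2)
    exact ⟨ξ, specializes_iff_mem_closure.2 hxξ, hξ.2⟩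
  -- there are good points
  have hne : (goodSet f).Nonempty := by
    obtain ⟨x⟩ : Nonempty X := inferInstance
    obtain ⟨η, -, hmax⟩ := WeilExt.exists_maximal_generization (f x)
    have hηc : closure {η} ∈ irreducibleComponents (S : Type u) := by
      refine ⟨isIrreducible_singleton.closure, fun Z hZ hle y hy => ?_⟩
      have hc : IsIrreducible (closure Z) := hZ.closure
      have hgen := hc.isGenericPoint_genericPoint isClosed_closure
      rw [← hmax _ (hgen.specializes (subset_closure (hle (subset_closure rfl))))]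
      exact (hgen.specializes (subset_closure hy)).mem_closure
    by_contra hne
    obtain ⟨V, hηV, hV⟩ := SchTop.exists_open_of_maximal f η hηc fun ⟨ξ, hξ⟩ =>
      hne ⟨ξ, ξ, specializes_rfl, by rw [hξ]; exact hmax⟩
    obtain ⟨y, hy⟩ := f.denseRange.exists_mem_open V.isOpen ⟨η, hηV⟩
    exact (hV.le (show y ∈ f ⁻¹ᵁ V from hy)).elim
  have hall : goodSet f = Set.univ :=
    IsClopen.eq_univ ⟨hclosed, hsmooth ▸ f.smoothLocus.isOpen⟩ hne
  haveI : Smooth f := by
    rw [← Scheme.Hom.smoothLocus_eq_top_iff]
    ext1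
    rw [hsmooth, hall]
    rfl
  exact UnramMisc.etale_of_smooth_of_locallyQuasiFinite f

/-- Quasi-finite morphisms with smooth fibres are unramified. -/
theorem formallyUnramified_of_smooth_fibres [LocallyOfFiniteType f] [LocallyQuasiFinite f]
    (hfib : ∀ s : S, Smooth (pullback.snd f (S.fromSpecResidueField s))) : FormallyUnramified f :=
  GrpSchLib.formallyUnramified_of_fibres f fun s => by
    haveI : Smooth (f.fiberToSpecResidueField s) := hfib s
    haveI : LocallyQuasiFinite (f.fiberToSpecResidueField s) :=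
      inferInstanceAs (LocallyQuasiFinite (pullback.snd f (S.fromSpecResidueField s)))
    haveI := UnramMisc.etale_of_smooth_of_locallyQuasiFinite (f.fiberToSpecResidueField s)
    infer_instance

end Groth.Agent.QFUnib
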